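import Groth.Agent.HomDiag.Points
import Groth.Agent.LBDesc.Ring
import Groth.Agent.S6004
import Groth.Prelude.Def_NonAbH2
import Mathlib.AlgebraicGeometry.Sites.Fpqc

/-!
Torsors under the multiplicative group are locally trivial for the Zariski topology.
-/

set_option autoImplicit false
set_option backward.isDefEq.respectTransparency false
set_option linter.style.haveILetI false
set_option maxHeartbeats 800000

universe u

noncomputable section

open CategoryTheory Limits MonoidalCategory CartesianMonoidalCategory MonObj AlgebraicGeometry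
open scoped TensorProduct

namespace Groth.Agent.GmTorsorZar

section Act

variable {S : Scheme.{u}} {G X : Over S} [GrpObj G] (a : AlgGrp.Action G X)

/-- translation of a point -/
def tr {T : Over S} (g : T ⟶ G) (x : T ⟶ X) : T ⟶ X := lift g x ≫ a.act

theorem tr_comp {T' T : Over S} (h : T' ⟶ T) (g : T ⟶ G) (x : T ⟶ X) : h ≫ tr a g x = tr a (h ≫ g) (h ≫ x) := by
  unfold tr
  rw [← Category.assoc, comp_lift]

theorem tr_one {T : Over S} (x : T ⟶ X) : tr a 1 x = x := by
  have e : lift (1 : T ⟶ G) x = lift (toUnit T) x ≫ (η[G] ▷ X) := by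
    rw [lift_whiskerRight]; rfl
  rw [tr, e, Category.assoc, a.one_act, lift_leftUnitor_hom]

theorem tr_mul {T : Over S} (g h : T ⟶ G) (x : T ⟶ X) : tr a (g * h) x = tr a g (tr a h x) := by
  have e : lift (g * h) x = lift (lift g h) x ≫ (μ[G] ▷ X) := by rw [lift_whiskerRight]; rfl
  rw [tr, e, Category.assoc, a.mul_act, ← Category.assoc (lift (lift g h) x), lift_lift_associator_hom,
    ← Category.assoc, lift_whiskerLeft]
  rfl

variable (h : NonAbH1.IsPseudoTorsorSch a)

include h in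
theorem existsUnique_tr {T : Over S} (x y : T ⟶ X) : ∃! g : T ⟶ G, tr a g x = y := by
  haveI : IsIso (lift a.act (snd G X)) := h
  refine ⟨lift y x ≫ inv (lift a.act (snd G X)) ≫ fst G X, ?_, fun g hg => ?_⟩
  · have e : lift y x ≫ inv (lift a.act (snd G X)) ≫ snd G X = x := by
      have : inv (lift a.act (snd G X)) ≫ snd G X = snd X X := by rw [IsIso.inv_comp_eq, lift_snd]
      rw [this, lift_snd]
    have e' : lift (lift y x ≫ inv (lift a.act (snd G X)) ≫ fst G X) x = lift y x ≫ inv (lift a.act (snd G X)) :=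
      CartesianMonoidalCategory.hom_ext _ _ (by simp) (by rw [lift_snd, Category.assoc, e])
    have : inv (lift a.act (snd G X)) ≫ a.act = fst X X := by rw [IsIso.inv_comp_eq, lift_fst]
    show lift _ x ≫ a.act = y
    rw [e', Category.assoc, this, lift_fst]
  · have : lift g x ≫ lift a.act (snd G X) = lift y x := by rw [comp_lift, lift_snd, ← hg]; rfl
    rw [← this, Category.assoc, IsIso.hom_inv_id_assoc, lift_fst]

end Act

variable {S : Scheme.{u}}

/-- the coordinate of a point of the multiplicative group -/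
def gcoord {T : Over S} (g : T ⟶ Red.Gm S) : Γ(T.left, ⊤) := HomDiag.ch g (Multiplicative.ofAdd 1)

theorem gcoord_mul {T : Over S} (g h : T ⟶ Red.Gm S) : gcoord (g * h) = gcoord g * gcoord h :=
  HomDiag.ch_mul g h _

theorem gcoord_one {T : Over S} : gcoord (1 : T ⟶ Red.Gm S) = 1 := HomDiag.ch_one _

theorem gcoord_comp {T' T : Over S} (p : T' ⟶ T) (g : T ⟶ Red.Gm S) : gcoord (p ≫ g) = p.left.appTop (gcoord g) :=
  HomDiag.ch_comp p g _

theorem gcoord_ext {T : Over S} {g h : T ⟶ Red.Gm S} (e : gcoord g = gcoord h) : g = h := by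
  refine HomDiag.ch_ext fun m => ?_
  have hg : IsUnit (gcoord g) := (Group.isUnit _).map _
  let u (g : T ⟶ Red.Gm S) : Multiplicative ℤ →* Γ(T.left, ⊤)ˣ := (HomDiag.ch g).toHomUnits
  have : u g = u h := MonoidHom.ext_mint (Units.ext e)
  exact congrArg Units.val (DFunLike.congr_fun this m)

theorem exists_gcoord {T : Over S} (c : Γ(T.left, ⊤)ˣ) : ∃ g : T ⟶ Red.Gm S, gcoord g = c := by
  obtain ⟨g, hg⟩ := HomDiag.exists_ch (S := S) (X := T) ((Units.coeHom _).comp (zpowersHom _ c))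
  refine ⟨g, (hg _).trans ?_⟩
  simp [zpowersHom_apply]

theorem exists_local_section {X : Over S} (a : AlgGrp.Action (Red.Gm S) X)
    (h : NonAbH1.IsPseudoTorsorSch a) [IsAffineHom X.hom] [Flat X.hom] [Surjective X.hom] (s : S) :
    ∃ (D : Scheme.{u}) (j : D ⟶ S), IsOpenImmersion j ∧ s ∈ Set.range j ∧ ∃ x : D ⟶ X.left, x ≫ X.hom = j := by
  obtain ⟨_, ⟨V, hV, rfl⟩, hsV, -⟩ := S.isBasis_affineOpens.exists_subset_of_mem_open (Set.mem_univ s) isOpen_univ
  let U := X.hom ⁻¹ᵁ V
  have hU : IsAffineOpen U := hV.preimage X.hom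
  let A := Γ(S, V)
  let B := Γ(X.left, U)
  let φ₀ := X.hom.appLE V U le_rfl
  letI : Algebra A B := φ₀.hom.toAlgebra
  have hfl : φ₀.hom.Flat := X.hom.flat_appLE hV hU le_rfl
  haveI : Module.Flat A B := hfl
  have hτ : hU.fromSpec ≫ X.hom = Spec.map φ₀ ≫ hV.fromSpec :=
    (hV.SpecMap_appLE_fromSpec X.hom hU le_rfl).symm
  have hsurj : ∀ P : PrimeSpectrum A, ∃ Q : PrimeSpectrum B, PrimeSpectrum.comap (algebraMap A B) Q = P := fun P => by
    obtain ⟨y, hy⟩ := X.hom.surjective (hV.fromSpec P)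
    have hyU : y ∈ U := show X.hom y ∈ V by rw [hy]; exact hV.range_fromSpec.le ⟨P, rfl⟩
    refine ⟨hU.primeIdealOf ⟨y, hyU⟩, hV.fromSpec.isOpenEmbedding.injective ?_⟩
    show hV.fromSpec (Spec.map φ₀ (hU.primeIdealOf ⟨y, hyU⟩)) = _
    rw [← Scheme.Hom.comp_apply, ← hτ, Scheme.Hom.comp_apply, hU.fromSpec_primeIdealOf, hy]
  haveI : Module.FaithfullyFlat A B := Module.FaithfullyFlat.of_comap_surjective hsurj
  let T : ∀ (R : Type u) [CommRing R] [Algebra A R], Over S :=
    fun R _ _ => Over.mk (Spec.map (CommRingCat.ofHom (algebraMap A R)) ≫ hV.fromSpec)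
  let pt : ∀ (R : Type u) [CommRing R] [Algebra A R], (B →ₐ[A] R) → (T R ⟶ X) := fun R _ _ φ =>
    Over.homMk (Spec.map (CommRingCat.ofHom φ.toRingHom) ≫ hU.fromSpec) (by
      show (_ ≫ _) ≫ X.hom = _
      rw [Category.assoc, hτ, ← Spec.map_comp_assoc]
      congr 2
      ext z
      exact φ.commutes z)
  let ε : ∀ (R : Type u) [CommRing R], Γ(Spec (CommRingCat.of R), ⊤) →+* R := fun R _ =>
    (Scheme.ΓSpecIso (CommRingCat.of R)).hom.hom
  let W : ∀ (R : Type u) [CommRing R] [Algebra A R] [Module.Flat A R], (B →ₐ[A] R) → (B →ₐ[A] R) → R :=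
    fun R _ _ _ φ ψ => ε R (gcoord (T := T R) (existsUnique_tr a h (pt R φ) (pt R ψ)).exists.choose)
  have hWspec : ∀ (R : Type u) [CommRing R] [Algebra A R] [Module.Flat A R] (φ ψ : B →ₐ[A] R)
      (g : T R ⟶ Red.Gm S), tr a g (pt R φ) = pt R ψ → W R φ ψ = ε R (gcoord (T := T R) g) := fun R _ _ _ φ ψ g hg => by
    show ε R (gcoord (T := T R) _) = _
    rw [(existsUnique_tr a h (pt R φ) (pt R ψ)).unique (existsUnique_tr a h (pt R φ) (pt R ψ)).exists.choose_spec hg]
  have hW : ∀ (R : Type u) [CommRing R] [Algebra A R] [Module.Flat A R] (φ ψ : B →ₐ[A] R),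
      ∃ g : T R ⟶ Red.Gm S, tr a g (pt R φ) = pt R ψ ∧ W R φ ψ = ε R (gcoord (T := T R) g) := fun R _ _ _ φ ψ =>
    ⟨_, (existsUnique_tr a h (pt R φ) (pt R ψ)).exists.choose_spec, rfl⟩
  have hnat : ∀ (R R' : Type u) [CommRing R] [Algebra A R] [Module.Flat A R] [CommRing R'] [Algebra A R']
      [Module.Flat A R'] (f : R →ₐ[A] R') (φ ψ : B →ₐ[A] R),
      f (W R φ ψ) = W R' (f.comp φ) (f.comp ψ) := fun R R' _ _ _ _ _ _ f φ ψ => by
    obtain ⟨g, hg, e⟩ := hW R φ ψ
    let p : T R' ⟶ T R := Over.homMk (Spec.map (CommRingCat.ofHom f.toRingHom)) (by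
      show _ ≫ _ ≫ _ = _
      rw [← Spec.map_comp_assoc]
      congr 2
      ext z
      exact f.commutes z)
    have hp : ∀ χ : B →ₐ[A] R, p ≫ pt R χ = pt R' (f.comp χ) := fun χ => by
      ext1
      show Spec.map (CommRingCat.ofHom f.toRingHom) ≫ Spec.map (CommRingCat.ofHom χ.toRingHom) ≫ hU.fromSpec =
        Spec.map (CommRingCat.ofHom (f.comp χ).toRingHom) ≫ hU.fromSpec
      rw [← Spec.map_comp_assoc]
      rfl
    have := congrArg (p ≫ ·) hg
    simp only [tr_comp, hp] at this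
    rw [hWspec R' _ _ _ this, e, gcoord_comp]
    exact (RingHom.congr_fun (congrArg CommRingCat.Hom.hom
      (Scheme.ΓSpecIso_naturality (CommRingCat.ofHom f.toRingHom))) (gcoord g)).symm
  have hone : ∀ (R : Type u) [CommRing R] [Algebra A R] [Module.Flat A R] (φ : B →ₐ[A] R), W R φ φ = 1 :=
    fun R _ _ _ φ => by rw [hWspec R φ φ 1 (tr_one a _), gcoord_one, map_one]
  have hcoc : ∀ (R : Type u) [CommRing R] [Algebra A R] [Module.Flat A R] (φ ψ χ : B →ₐ[A] R),
      W R φ ψ * W R ψ χ = W R φ χ := fun R _ _ _ φ ψ χ => by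
    obtain ⟨g, hg, e⟩ := hW R φ ψ
    obtain ⟨g', hg', e'⟩ := hW R ψ χ
    rw [hWspec R φ χ (g' * g) (by rw [tr_mul, hg, hg']), gcoord_mul, map_mul, e, e', mul_comm]
  obtain ⟨P, hP⟩ : ∃ P : PrimeSpectrum A, hV.fromSpec P = s := hV.range_fromSpec.ge hsV
  obtain ⟨f, hfP, m, n, hmn, hm⟩ := LBDesc.exists_coboundary W hnat hone hcoc P
  let Af := Localization.Away f
  let Bf := Localization.Away (algebraMap A B f)
  haveI : Module.Flat A Bf := Module.Flat.trans A B Bf
  have hu : IsUnit (algebraMap A Bf f) := by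
    rw [IsScalarTower.algebraMap_apply A B Bf]
    exact IsLocalization.Away.algebraMap_isUnit _
  let j' := Spec.map (CommRingCat.ofHom (algebraMap A Af))
  haveI : IsOpenImmersion j' := IsOpenImmersion.of_isLocalization f
  refine ⟨_, j' ≫ hV.fromSpec, inferInstance, ?_, ?_⟩
  · obtain ⟨w, hw⟩ := (PrimeSpectrum.localization_away_comap_range Af f).ge (show P ∈ PrimeSpectrum.basicOpen f from hfP)
    exact ⟨w, by rw [Scheme.Hom.comp_apply]; exact (congrArg hV.fromSpec hw).trans hP⟩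
  let κ : Af →+* Bf := IsLocalization.Away.lift f hu
  let q := Spec.map (CommRingCat.ofHom κ)
  have hq : q ≫ j' = Spec.map (CommRingCat.ofHom (algebraMap A Bf)) := by
    rw [← Spec.map_comp, ← CommRingCat.ofHom_comp, IsLocalization.Away.lift_comp]
  haveI : Flat q := by
    haveI : Flat (q ≫ j') := by
      rw [hq]
      exact Flat.SpecMap_iff.2 (RingHom.flat_algebraMap_iff.2 inferInstance)
    have sq : IsPullback q (𝟙 _) j' (q ≫ j') := IsPullback.of_isLimit' ⟨by simp⟩
      (PullbackCone.IsLimit.mk _ (fun t => t.snd)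
        (fun t => (cancel_mono j').1 (by rw [Category.assoc]; exact t.condition.symm)) (fun t => by simp)
        (fun t l _ h₂ => by simpa using h₂))
    exact MorphismProperty.of_isPullback sq.flip inferInstance
  haveI : Surjective q := ⟨fun w => by
    obtain ⟨Q, hQ⟩ := hsurj (j' w)
    have hQf : algebraMap A B f ∉ Q.asIdeal := fun hmem =>
      (PrimeSpectrum.localization_away_comap_range Af f).le ⟨w, rfl⟩ (by
        have : f ∈ (PrimeSpectrum.comap (algebraMap A B) Q).asIdeal := hmem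
        rw [hQ] at this
        exact this)
    obtain ⟨z, hz⟩ := (PrimeSpectrum.localization_away_comap_range Bf (algebraMap A B f)).ge
      (show Q ∈ PrimeSpectrum.basicOpen (algebraMap A B f) from hQf)
    refine ⟨z, j'.isOpenEmbedding.injective ?_⟩
    rw [← Scheme.Hom.comp_apply, hq, ← hQ, ← hz]
    exact congrArg (fun r => PrimeSpectrum.comap r z) (IsScalarTower.algebraMap_eq A B Bf)⟩
  haveI : EffectiveEpi q := inferInstance
  let β : B →ₐ[A] Bf := IsScalarTower.toAlgHom A B Bf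
  have hmu : IsUnit (β m) := by
    refine isUnit_of_mul_isUnit_left (y := β n) ?_
    rw [← map_mul, hmn, AlgHom.commutes]
    exact hu
  obtain ⟨c, hc⟩ := hmu.map (Scheme.ΓSpecIso (CommRingCat.of Bf)).inv.hom
  obtain ⟨g₀, hg₀⟩ := exists_gcoord (S := S) (T := T Bf) c⁻¹
  let x₀ := tr a g₀ (pt Bf β)
  let R2 := Bf ⊗[A] Bf
  let l : Bf →ₐ[A] R2 := Algebra.TensorProduct.includeLeft
  let r : Bf →ₐ[A] R2 := Algebra.TensorProduct.includeRight
  let L : T R2 ⟶ T Bf := Over.homMk (Spec.map (CommRingCat.ofHom l.toRingHom)) (by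
    show _ ≫ _ ≫ _ = _
    rw [← Spec.map_comp_assoc]
    congr 2)
  let Rr : T R2 ⟶ T Bf := Over.homMk (Spec.map (CommRingCat.ofHom r.toRingHom)) (by
    show _ ≫ _ ≫ _ = _
    rw [← Spec.map_comp_assoc]
    congr 2
    ext z
    exact r.commutes z)
  have hkey : L ≫ x₀ = Rr ≫ x₀ := by
    have hpt : ∀ (ω : Bf →ₐ[A] R2) (p : T R2 ⟶ T Bf), p.left = Spec.map (CommRingCat.ofHom ω.toRingHom) →
        p ≫ pt Bf β = pt R2 (ω.comp β) ∧ ε R2 (gcoord (p ≫ g₀)) * (ω (β m)) = 1 := fun ω p hp => by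
      refine ⟨?_, ?_⟩
      · ext1
        show p.left ≫ _ ≫ _ = _
        rw [hp, ← Spec.map_comp_assoc]
        rfl
      · have e : ε R2 (gcoord (p ≫ g₀)) = ω (ε Bf (gcoord g₀)) := by
          rw [gcoord_comp, hp]
          exact RingHom.congr_fun (congrArg CommRingCat.Hom.hom
            (Scheme.ΓSpecIso_naturality (CommRingCat.ofHom ω.toRingHom))) (gcoord g₀)
        have e' : ε Bf ↑c = β m := by
          rw [hc]
          exact RingHom.congr_fun (congrArg CommRingCat.Hom.hom (Scheme.ΓSpecIso (CommRingCat.of Bf)).inv_hom_id) (β m)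
        rw [e, hg₀, ← e', ← map_mul, ← map_mul, Units.inv_mul, map_one, map_one]
    obtain ⟨hl₁, hl₂⟩ := hpt l L rfl
    obtain ⟨hr₁, hr₂⟩ := hpt r Rr rfl
    obtain ⟨g, hg, e⟩ := hW R2 (l.comp β) (r.comp β)
    rw [tr_comp, tr_comp, hl₁, hr₁, ← hg, ← tr_mul]
    congr 1
    refine gcoord_ext ((Scheme.ΓSpecIso (CommRingCat.of R2)).commRingCatIsoToRingEquiv.injective ?_)
    show ε R2 _ = ε R2 _
    rw [gcoord_mul, map_mul, ← e]
    have hm' := congrArg (Algebra.TensorProduct.map β β) hm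
    rw [map_mul, hnat, Algebra.TensorProduct.map_comp_includeLeft, Algebra.TensorProduct.map_comp_includeRight,
      Algebra.TensorProduct.map_tmul, Algebra.TensorProduct.map_tmul, map_one] at hm'
    have hm'' : W R2 (l.comp β) (r.comp β) * l (β m) = r (β m) := hm'
    calc ε R2 (gcoord (L ≫ g₀))
        = ε R2 (gcoord (L ≫ g₀)) * (ε R2 (gcoord (Rr ≫ g₀)) * r (β m)) := by rw [hr₂, _root_.mul_one]
      _ = ε R2 (gcoord (Rr ≫ g₀)) * W R2 (l.comp β) (r.comp β) * (ε R2 (gcoord (L ≫ g₀)) * l (β m)) := by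
        rw [← hm'']; ring
      _ = _ := by rw [hl₂, _root_.mul_one]
  have hkey' : Spec.map (CommRingCat.ofHom (Algebra.TensorProduct.includeLeftRingHom : Bf →+* R2)) ≫ x₀.left =
      Spec.map (CommRingCat.ofHom (Algebra.TensorProduct.includeRight : Bf →ₐ[A] R2).toRingHom) ≫ x₀.left :=
    congrArg CommaMorphism.left hkey
  have hdesc : ∀ {Z : Scheme.{u}} (y z : Z ⟶ Spec (CommRingCat.of Bf)), y ≫ q = z ≫ q → y ≫ x₀.left = z ≫ x₀.left := by
    intro Z y z e
    have e' : y ≫ Spec.map (CommRingCat.ofHom (algebraMap A Bf)) = z ≫ Spec.map (CommRingCat.ofHom (algebraMap A Bf)) := by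
      rw [← hq, reassoc_of% e]
    have h1 : (pullback.lift y z e' ≫ (pullbackSpecIso A Bf Bf).hom) ≫
        Spec.map (CommRingCat.ofHom (Algebra.TensorProduct.includeLeftRingHom : Bf →+* R2)) = y := by
      rw [Category.assoc, pullbackSpecIso_hom_fst, pullback.lift_fst]
    have h2 : (pullback.lift y z e' ≫ (pullbackSpecIso A Bf Bf).hom) ≫
        Spec.map (CommRingCat.ofHom (Algebra.TensorProduct.includeRight : Bf →ₐ[A] R2).toRingHom) = z := by
      rw [Category.assoc]
      erw [pullbackSpecIso_hom_snd]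
      exact pullback.lift_snd _ _ _
    exact (congrArg (· ≫ x₀.left) h1).symm.trans ((Category.assoc _ _ _).trans
      ((congrArg _ hkey').trans ((Category.assoc _ _ _).symm.trans (congrArg (· ≫ x₀.left) h2))))
  refine ⟨EffectiveEpi.desc q x₀.left hdesc, (cancel_epi q).1 ?_⟩
  rw [← Category.assoc, EffectiveEpi.fac, ← Category.assoc, hq]
  exact Over.w x₀

theorem isTorsorFor_zariski {X : Over S} (a : AlgGrp.Action (Red.Gm S) X)
    (h : NonAbH1.IsTorsorFor Scheme.fpqcPrecoverage a) : NonAbH1.IsTorsorFor Scheme.zariskiPrecoverage a := by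
  haveI := MTBridge.isAffineHom_DS S ℤ
  haveI : Flat (Red.Gm S).hom := by
    haveI : Flat (Red.diag (ULift.{u} ℤ) ℤ).hom := by
      show Flat (Spec.map (CommRingCat.ofHom (algebraMap (ULift.{u} ℤ) (MonoidAlgebra (ULift.{u} ℤ) (Multiplicative ℤ)))))
      exact Flat.SpecMap_iff.2 (RingHom.flat_algebraMap_iff.2 inferInstance)
    show Flat (pullback.snd _ _)
    exact MorphismProperty.pullback_snd _ _ inferInstance
  obtain ⟨_, _⟩ := S6004.result (Red.Gm S) X a h
  obtain ⟨R, hR, hs⟩ := h.2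
  haveI : Surjective X.hom := ⟨fun s => by
    obtain ⟨_, g, hg, ⟨y, rfl⟩⟩ := (Presieve.mem_comap_jointlySurjectivePrecoverage_iff Scheme.forget).1
      hR.2.1 s
    obtain ⟨t, rfl⟩ := hs g hg
    exact ⟨t y, (Scheme.Hom.comp_apply _ _ _).symm⟩⟩
  choose D j hj hjs x hx using exists_local_section a h.1
  refine ⟨h.1, Presieve.ofArrows D j, ⟨?_, ?_⟩, ?_⟩
  · exact (Presieve.mem_comap_jointlySurjectivePrecoverage_iff Scheme.forget).2 fun s => ⟨_, _, ⟨s⟩, hjs s⟩
  · rintro _ _ ⟨i⟩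
    exact hj i
  · rintro _ _ ⟨i⟩
    exact ⟨x i, hx i⟩

end Groth.Agent.GmTorsorZar
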